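import Cfsg.Agent.Omega.NO3b.ExEnd.Pick
import Cfsg.Agent.Omega.NO3b.EndX.Def

/-!
# The exact end, (3): `H = X / C_X(U)` acts on `M = U / D`, `U = ⟨Λ^X⟩`

* **`Pnt.exists_abs`** : `X`, `U`, `H`, `M` with `EndX.Abs`.
-/

set_option autoImplicit false

namespace Cfsg.Agent.Omega.NO3b.ExEnd

open Subgroup Cfsg Cfsg.Agent.ZN Cfsg.Agent.ClassTwoFusion.Quad Cfsg.Agent.Omega.ML.MinFrame
open Cfsg.Agent.MinSimple.VModule (o2_isPGroup o2_le le_o2 le_normalizer_o2 o2_le_of_sylow)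
open Cfsg.Agent.Omega.ML.Final (MLK kgroup_of_surj)

universe u v

variable {C : Type u} [Group C] {W : Type v} [CommGroup W] [MulDistribMulAction C W]

/-- the action of a subgroup on an invariant subgroup -/
abbrev subAct (X : Subgroup C) (U : Subgroup W) (hU : ∀ x ∈ X, ∀ w ∈ U, x • w ∈ U) : MulDistribMulAction X U where
  smul c u := ⟨(c : C) • (u : W), hU c c.2 u u.2⟩
  one_smul u := Subtype.ext (one_smul C (u : W))
  mul_smul c d u := Subtype.ext (mul_smul (c : C) d (u : W))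
  smul_mul c u w := Subtype.ext (smul_mul' (c : C) (u : W) w)
  smul_one c := Subtype.ext (smul_one (c : C))

/-- `⟨Λ^X⟩` -/
def UU (X : Subgroup C) (Λ : Subgroup W) : Subgroup W := closure {w | ∃ x ∈ X, ∃ v ∈ Λ, w = x • v}

theorem smul_mem_UU {X : Subgroup C} {Λ : Subgroup W} {x : C} (hx : x ∈ X) {w : W} (hw : w ∈ UU X Λ) :
    x • w ∈ UU X Λ := by
  have h1 : UU X Λ ≤ (UU X Λ).comap (MulDistribMulAction.toMonoidHom W x) := by
    rw [UU, closure_le]
    rintro _ ⟨y, hy, v, hv, rfl⟩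
    exact subset_closure ⟨x * y, mul_mem hx hy, v, hv, (mul_smul x y v).symm⟩
  exact h1 hw

theorem le_UU (X : Subgroup C) (Λ : Subgroup W) : Λ ≤ UU X Λ :=
  fun v hv => subset_closure ⟨1, one_mem _, v, hv, (one_smul C v).symm⟩

theorem orb_le_UU {X : Subgroup C} {Λ : Subgroup W} {v : W} (hv : v ∈ Λ) : orb X v ≤ UU X Λ :=
  orb_le fun x hx => subset_closure ⟨x, hx, v, hv, rfl⟩

theorem UU_le {X : Subgroup C} {Λ U : Subgroup W} (h : ∀ x ∈ X, ∀ v ∈ Λ, x • v ∈ U) : UU X Λ ≤ U := by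
  rw [UU, closure_le]
  rintro _ ⟨x, hx, v, hv, rfl⟩
  exact h x hx v hv

/-- **(1)-(3)** -/
theorem Pnt.exists_abs [Finite C] [Finite W] (ml : MLK.{u, v}) (hK : IsKGroup C) {T : Subgroup C} {D Λ : Subgroup W}
    {P B E : Subgroup C} {L : W → Subgroup W} (h : Pnt T D Λ P B E) (l : Lab T D Λ P L) :
    ∃ (X : Subgroup C) (U : Subgroup W), T ≤ X ∧ (∀ x ∈ X, ∀ w ∈ U, x • w ∈ U) ∧ D ≤ U ∧ Λ ≤ U ∧
      ∃ (H : Type u) (_ : Group H) (_ : Finite H) (M : Type v) (_ : Group M) (_ : Finite M)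
        (_ : MulDistribMulAction H M) (π : X →* H) (q : U →* M), Function.Surjective π ∧ Function.Surjective q ∧
        (∀ w : U, q w = 1 ↔ (w : W) ∈ D) ∧
        (∀ (x : X) (w w' : U), (w' : W) = (x : C) • (w : W) → q w' = π x • q w) ∧ IsKGroup H ∧
        (∀ F : Subgroup H, F.Normal → Odd (Nat.card F) → ∀ m : M,
          (∀ v ∈ (Λ.subgroupOf U).map q, v ≠ 1 → m ∈ orb (⊤ : Subgroup H) v) → ∀ f ∈ F, f • m = m) ∧
        ∃ B' Y, EndX.Abs ((T.subgroupOf X).map π) B' Y ((Λ.subgroupOf U).map q) := by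
  obtain ⟨X, B₁, k⟩ := h.exists_pick
  obtain ⟨v₀, hv₀, hv₀D⟩ := h.exists_v
  set U := UU X Λ with hU
  have hinv : ∀ x ∈ X, ∀ w ∈ U, x • w ∈ U := fun x hx w hw => smul_mem_UU hx hw
  have hΛU : Λ ≤ U := le_UU X Λ
  have hDU : D ≤ U := h.DΛ.trans hΛU
  let _ : MulDistribMulAction X U := subAct X U hinv
  set D' := D.subgroupOf U with hD'
  have hD'inv : ∀ (x : X), ∀ d ∈ D', x • d ∈ D' := by
    intro x d hd
    rw [hD', mem_subgroupOf] at hd ⊢
    change (x : C) • (d : W) ∈ D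
    rwa [h.fixD _ _ hd]
  let aM : MulDistribMulAction X (U ⧸ D') := quoAct D' hD'inv
  set q : U →* U ⧸ D' := QuotientGroup.mk' D' with hq
  have hqs : Function.Surjective q := QuotientGroup.mk'_surjective D'
  have hq1 : ∀ w : U, q w = 1 ↔ (w : W) ∈ D := fun w => by
    rw [hq, QuotientGroup.mk'_apply, QuotientGroup.eq_one_iff, hD', mem_subgroupOf]
  have hqe : ∀ w w' : U, q w = q w' ↔ (w : W)⁻¹ * (w' : W) ∈ D := fun w w' => QuotientGroup.eq
  have hsm0 : ∀ (x : X) (w : U), x • q w = q (x • w) := fun _ _ => rfl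
  set N := fxr X (⊤ : Subgroup (U ⧸ D')) with hN
  have hNn : N.Normal := fxr_normal fun _ _ _ => mem_top _
  have hNt : ∀ x ∈ N, ∀ m : U ⧸ D', x • m = m := fun x hx m => hx m (mem_top m)
  let _ : MulDistribMulAction (X ⧸ N) (U ⧸ D') := Cfsg.Agent.Omega.ML.MinFrame.quoAct N hNt
  set π : X →* X ⧸ N := QuotientGroup.mk' N with hπ
  have hπs : Function.Surjective π := QuotientGroup.mk'_surjective N
  have hsm : ∀ (x : X) (w : U), π x • q w = q (x • w) := fun _ _ => rfl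
  have hfix : ∀ (x : X) (w : U), π x • q w = q w ↔ (w : W)⁻¹ * (x : C) • (w : W) ∈ D := by
    intro x w
    rw [hsm, eq_comm, hqe]
    exact Iff.rfl
  -- the kernel
  have hNmem : ∀ x : X, x ∈ N ↔ (x : C) ∈ km C (U : Set W) D := by
    intro x
    constructor
    · intro hx
      refine ⟨h.iv_D _, fun w hw => (hfix x ⟨w, hw⟩).1 ?_⟩
      exact hNt x hx (q ⟨w, hw⟩)
    · intro hx m _
      obtain ⟨w, rfl⟩ := hqs m
      exact (hfix x w).2 (hx.2 w w.2)
  have hkm : ∀ c : C, (∀ v ∈ Λ, v ∉ D → c ∈ km C (orb X v : Set W) D) → c ∈ km C (U : Set W) D := by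
    intro c hc
    refine ⟨h.iv_D c, ?_⟩
    have h1 : U ≤ cm D ({c} : Set C) := by
      refine UU_le fun x hx v hv a ha => ?_
      rw [Set.mem_singleton_iff.1 ha]
      by_cases hvD : v ∈ D
      · rw [h.fixD x v hvD, h.fixD c v hvD, inv_mul_cancel]
        exact one_mem _
      · exact (hc v hv hvD).2 _ (smul_mem_orb_self hx)
    exact fun w hw => h1 hw c rfl
  have hkmX : ∀ {c : C}, c ∈ X → c ∈ km C (U : Set W) D → c ∈ P := fun _ hc =>
    (h.mem_P hv₀ hv₀D).2 (km_anti (Set.singleton_subset_iff.2 (hΛU hv₀)) hc)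
  have hBU : B₁ ⊓ km C (U : Set W) D = B₁ ⊓ o2 X := by
    apply le_antisymm
    · rw [← k.cent h hv₀ hv₀D]
      exact inf_le_inf_left _ (km_anti (SetLike.coe_subset_coe.2 (orb_le_UU hv₀)))
    · refine le_inf inf_le_left fun c hc => hkm c fun v hv hvD => ?_
      have h1 : c ∈ B₁ ⊓ km C (orb X v : Set W) D := by
        rw [k.cent h hv hvD]
        exact hc
      exact h1.2
  have hBX : B₁ ≤ X := k.BX h
  have hcard : Nat.card ((B₁.subgroupOf X).map π) = (B₁ ⊓ o2 X).relIndex B₁ := by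
    rw [← relIndex_ker, hπ, QuotientGroup.ker_mk']
    have e1 : N = (km C (U : Set W) D).subgroupOf X := by
      ext x
      rw [hNmem, mem_subgroupOf]
    rw [e1, relIndex_subgroupOf hBX, ← inf_relIndex_right, inf_comm, hBU]
  have hcv : (cv (U ⧸ D') (((B₁.subgroupOf X).map π : Subgroup (X ⧸ N)) : Set (X ⧸ N))).comap q =
      (cm D (B₁ : Set C)).subgroupOf U := by
    ext w
    rw [mem_comap, mem_subgroupOf]
    constructor
    · exact fun h1 a ha => (hfix ⟨a, hBX ha⟩ w).1 (h1 _ ⟨⟨a, hBX ha⟩, ha, rfl⟩)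
    · rintro h1 _ ⟨a, ha, rfl⟩
      exact (hfix a w).2 (h1 a ha)
  have hlam : ∀ m ∈ (Λ.subgroupOf U).map q, m ≠ 1 → ∃ v, ∃ hv : v ∈ Λ, v ∉ D ∧ q ⟨v, hΛU hv⟩ = m := by
    rintro _ ⟨w, hw, rfl⟩ hne
    exact ⟨w, hw, fun hwD => hne ((hq1 w).2 hwD), rfl⟩
  have horbm : ∀ v (hv : v ∈ Λ), orb (⊤ : Subgroup (X ⧸ N)) (q ⟨v, hΛU hv⟩) = ((orb X v).subgroupOf U).map q := by
    intro v hv
    apply le_antisymm
    · refine orb_le fun g _ => ?_
      obtain ⟨x, rfl⟩ := hπs g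
      exact ⟨x • ⟨v, hΛU hv⟩, smul_mem_orb_self x.2, rfl⟩
    · rw [map_le_iff_le_comap]
      have h1 : orb X v ≤ ((orb (⊤ : Subgroup (X ⧸ N)) (q ⟨v, hΛU hv⟩)).comap q).map U.subtype := by
        refine orb_le fun x hx => ⟨(⟨x, hx⟩ : X) • ⟨v, hΛU hv⟩, ?_, rfl⟩
        exact smul_mem_orb_self (g := π ⟨x, hx⟩) (mem_top _)
      intro w hw
      obtain ⟨w', hw', he⟩ := h1 hw
      have h2 : w' = w := Subtype.ext he
      rwa [h2] at hw'
  -- `O(H)` centralises the intersection of the `⟨v^H⟩`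
  have hoddF : ∀ F : Subgroup (X ⧸ N), F.Normal → Odd (Nat.card F) → ∀ m : U ⧸ D',
      (∀ v ∈ (Λ.subgroupOf U).map q, v ≠ 1 → m ∈ orb (⊤ : Subgroup (X ⧸ N)) v) → ∀ f ∈ F, f • m = m := by
    intro F hFn hFo m hm f hf
    obtain ⟨w, rfl⟩ := hqs m
    set Y₀ : Subgroup C := (F.comap π).map X.subtype with hY₀
    have hY₀m : ∀ x : X, (x : C) ∈ Y₀ ↔ π x ∈ F := by
      intro x
      constructor
      · rintro ⟨y, hy, hyx⟩
        rw [← (Subtype.ext hyx : y = x)]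
        exact hy
      · exact fun hx => ⟨x, hx, rfl⟩
    have hY₀X : Y₀ ≤ X := map_subtype_le _
    have hXY₀ : X ≤ normalizer (Y₀ : Set C) := by
      have key : ∀ x ∈ X, ∀ y ∈ Y₀, x * y * x⁻¹ ∈ Y₀ := by
        intro x hx y hy
        have h1 := hFn.conj_mem _ ((hY₀m ⟨y, hY₀X hy⟩).1 hy) (π ⟨x, hx⟩)
        rw [← map_inv, ← map_mul, ← map_mul] at h1
        exact (hY₀m _).2 h1
      intro x hx
      rw [mem_normalizer_iff]
      refine fun y => ⟨key x hx y, fun hy => ?_⟩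
      have h1 := key x⁻¹ (inv_mem hx) _ hy
      have e : x⁻¹ * (x * y * x⁻¹) * x⁻¹⁻¹ = y := by group
      rwa [e] at h1
    have hT₀ : ∀ t ∈ T ⊓ Y₀, ∀ (ht : t ∈ X), (⟨t, ht⟩ : X) ∈ N := by
      intro t ht htX
      have h1 : π ⟨t, htX⟩ ∈ F := (hY₀m ⟨t, htX⟩).1 ht.2
      have h2 : π ⟨t, htX⟩ ∈ (T.subgroupOf X).map π := ⟨⟨t, htX⟩, ht.1, rfl⟩
      have h3 : IsPGroup 2 ((T.subgroupOf X).map π) := (h.two.comap_of_injective _ X.subtype_injective).map π
      obtain ⟨n, hn⟩ := h3 ⟨_, h2⟩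
      have h4 : π ⟨t, htX⟩ ^ 2 ^ n = 1 := congrArg Subtype.val hn
      have h5 : orderOf (π ⟨t, htX⟩) ∣ 2 ^ n := orderOf_dvd_of_pow_eq_one h4
      have h6 : orderOf (π ⟨t, htX⟩) ∣ Nat.card F := by
        have h7 := orderOf_dvd_natCard (⟨π ⟨t, htX⟩, h1⟩ : F)
        rwa [Subgroup.orderOf_mk] at h7
      have h7 : orderOf (π ⟨t, htX⟩) = 1 := by
        have h8 : Nat.Coprime (2 ^ n) (Nat.card F) := Nat.Coprime.pow_left n (Nat.coprime_two_left.2 hFo)
        exact Nat.dvd_one.1 (h8 ▸ Nat.dvd_gcd h5 h6)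
      exact (QuotientGroup.eq_one_iff _).1 (orderOf_eq_one_iff.1 h7)
    have hw1 : ∀ t ∈ T ⊓ Y₀, t • (w : W) = w := by
      intro t ht
      have htX : t ∈ X := k.TX ht.1
      have hone : (w : W)⁻¹ * t • (w : W) = 1 := by
        refine l.inf _ fun v hv hvD => ?_
        have h1 := hm (q ⟨v, hΛU hv⟩) ⟨⟨v, hΛU hv⟩, hv, rfl⟩ fun h2 => hvD ((hq1 _).1 h2)
        rw [horbm v hv] at h1
        obtain ⟨u, hu, huw⟩ := h1
        have h2 : (u : W)⁻¹ * (w : W) ∈ D := (hqe u w).1 huw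
        have h3 : orb X v ≤ cm (L v) ({t} : Set C) := by
          refine orb_le fun x hx a ha => ?_
          rw [Set.mem_singleton_iff.1 ha, comm_smul]
          have h4 : (⟨x, hx⟩ : X)⁻¹ * ⟨t, htX⟩ * ⟨x, hx⟩ ∈ N := by
            have := hNn.conj_mem _ (hT₀ t ht htX) (⟨x, hx⟩ : X)⁻¹
            rwa [inv_inv] at this
          have h5 := l.lab v hv hvD (x⁻¹ * t * x) (hkmX (mul_mem (mul_mem (inv_mem hx) htX) hx) ((hNmem _).1 h4))
          rwa [h.fixD x _ (l.LD v h5)]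
        have h4 : D ≤ cm (L v) ({t} : Set C) := fun d hd a _ => by
          rw [h.fixD a d hd, inv_mul_cancel]
          exact one_mem _
        have h5 : (u : W) * ((u : W)⁻¹ * (w : W)) ∈ cm (L v) ({t} : Set C) := mul_mem (h3 hu) (h4 h2)
        rw [mul_inv_cancel_left] at h5
        exact h5 t rfl
      exact (inv_mul_eq_one.1 hone).symm
    obtain ⟨x, rfl⟩ := hπs f
    have h1 := l.tr Y₀ (k.TX.trans hXY₀) w hw1 x ((hY₀m x).2 hf)
    rw [hsm]
    exact congrArg q (Subtype.ext h1)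
  refine ⟨X, U, k.TX, hinv, hDU, hΛU, X ⧸ N, inferInstance, inferInstance, U ⧸ D', inferInstance, inferInstance,
    inferInstance, π, q, hπs, hqs, hq1, ?_, kgroup_of_surj hK X π hπs, hoddF, (B₁.subgroupOf X).map π,
    (P.subgroupOf X).map π, ?_⟩
  · intro x w w' hw
    rw [hsm]
    exact congrArg q (Subtype.ext hw)
  · refine ⟨?_, ?_, ?_, ?_, ?_, ?_, ?_, ?_, ?_, ?_, ?_, ?_, ?_, ?_, ?_⟩
    · -- sq
      intro m
      obtain ⟨w, rfl⟩ := hqs m
      have h1 : w * w = 1 := Subtype.ext (h.sq w)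
      rw [← map_mul, h1, map_one]
    · -- faith
      intro g hg
      obtain ⟨x, rfl⟩ := hπs g
      exact (QuotientGroup.eq_one_iff x).2 fun m _ => hg m
    · exact (h.two.comap_of_injective _ X.subtype_injective).map π
    · intro h2
      exact h.odd_rel k.TX (h2.trans (index_map_dvd _ hπs))
    · -- stab
      intro m hm hm1 g
      obtain ⟨v, hv, hvD, rfl⟩ := hlam m hm hm1
      obtain ⟨x, rfl⟩ := hπs g
      rw [hfix]
      constructor
      · intro h1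
        exact ⟨x, (h.stab v hv hvD x).2 h1, rfl⟩
      · rintro ⟨y, hy, hyx⟩
        have h1 : π y • q ⟨v, hΛU hv⟩ = q ⟨v, hΛU hv⟩ := (hfix y _).2 ((h.stab v hv hvD y).1 hy)
        rw [hyx] at h1
        exact (hfix x ⟨v, hΛU hv⟩).1 h1
    · exact map_mono fun t ht => h.TP ht
    · -- `Y ≠ ⊤`
      intro hY
      apply k.nle
      have hXP : X ≤ P := by
        intro x hx
        have h1 : π ⟨x, hx⟩ ∈ (P.subgroupOf X).map π := by rw [hY]; exact mem_top _
        obtain ⟨y, hy, hyx⟩ := h1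
        have h2 : y⁻¹ * ⟨x, hx⟩ ∈ N := QuotientGroup.eq.1 hyx
        have h3 : ((y⁻¹ * ⟨x, hx⟩ : X) : C) ∈ P := hkmX (y⁻¹ * ⟨x, hx⟩ : X).2 ((hNmem _).1 h2)
        have h4 := mul_mem (show (y : C) ∈ P from hy) h3
        have e : (y : C) * ((y⁻¹ * ⟨x, hx⟩ : X) : C) = x := by
          change (y : C) * ((y : C)⁻¹ * x) = x
          group
        rwa [e] at h4
      exact inf_le_o2' (k.le.trans h.BP) hBX hXP
    · -- `4 ≤ |lam|`
      have h1 : Nat.card ((Λ.subgroupOf U).map q) * Nat.card D = Nat.card Λ := by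
        rw [← relIndex_ker, hq, QuotientGroup.ker_mk', hD', relIndex_subgroupOf hΛU, mul_comm]
        rw [← card_mul_index (D.subgroupOf Λ)]
        congr 1
        exact (Nat.card_congr (subgroupOfEquivOfLe h.DΛ).toEquiv).symm
      have h2 := h.four
      have h3 : 0 < Nat.card D := Nat.card_pos
      rw [← h1] at h2
      exact Nat.le_of_mul_le_mul_right h2 h3
    · -- gen
      intro V hV
      rw [eq_top_iff]
      intro m _
      obtain ⟨w, rfl⟩ := hqs m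
      have h1 : U ≤ (V.comap q).map U.subtype := by
        refine UU_le fun x hx v hv => ?_
        refine ⟨⟨x • v, hinv x hx v (hΛU hv)⟩, ?_, rfl⟩
        exact hV (π ⟨x, hx⟩) (q ⟨v, hΛU hv⟩) ⟨⟨v, hΛU hv⟩, hv, rfl⟩
      obtain ⟨w', hw', he⟩ := h1 w.2
      have h2 : w' = w := Subtype.ext he
      rwa [h2] at hw'
    · -- `B ≤ T`
      exact map_mono fun b hb => h.BT (k.le hb)
    · -- `B ≠ ⊥`
      intro hB
      apply k.nle
      have h1 : B₁ ≤ B₁ ⊓ km C (U : Set W) D := by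
        refine le_inf le_rfl fun b hb => ?_
        have h2 : π ⟨b, hBX hb⟩ ∈ (B₁.subgroupOf X).map π := ⟨⟨b, hBX hb⟩, hb, rfl⟩
        rw [hB, mem_bot] at h2
        exact (hNmem ⟨b, hBX hb⟩).1 ((QuotientGroup.eq_one_iff _).1 h2)
      rw [hBU] at h1
      exact h1.trans inf_le_right
    · -- el
      rintro _ ⟨b, hb, rfl⟩
      have h1 : b * b = 1 := Subtype.ext (h.Bsq b (k.le hb))
      rw [← map_mul, h1, map_one]
    · -- low
      intro R hTR hR
      set R₀ := (R.comap π).map X.subtype with hR₀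
      have hR₀X : R₀ ≤ X := map_subtype_le _
      have hTR₀ : T ≤ R₀ := fun t ht => ⟨⟨t, k.TX ht⟩, hTR ⟨⟨t, k.TX ht⟩, ht, rfl⟩, rfl⟩
      have hmemR : ∀ x : X, (x : C) ∈ R₀ ↔ π x ∈ R := by
        intro x
        constructor
        · rintro ⟨y, hy, hyx⟩
          rw [← (Subtype.ext hyx : y = x)]
          exact hy
        · exact fun hx => ⟨x, hx, rfl⟩
      have hlt : R₀ < X := by
        refine lt_of_le_of_ne hR₀X fun he => hR ?_
        rw [eq_top_iff]
        intro g _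
        obtain ⟨x, rfl⟩ := hπs g
        exact (hmemR x).1 (by rw [he]; exact x.2)
      have h1 := k.low R₀ hTR₀ hlt
      refine (map_mono (fun b hb => h1 hb) : (B₁.subgroupOf X).map π ≤ ((o2 R₀).subgroupOf X).map π).trans ?_
      refine le_o2 ?_ (((o2_isPGroup R₀).comap_of_injective _ X.subtype_injective).map π) ?_
      · rintro _ ⟨x, hx, rfl⟩
        exact (hmemR x).1 (o2_le _ hx)
      · intro g hg
        obtain ⟨y, rfl⟩ := hπs g
        have hy : (y : C) ∈ R₀ := (hmemR y).2 hg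
        have key : ∀ y : X, (y : C) ∈ R₀ → ∀ z ∈ ((o2 R₀).subgroupOf X).map π,
            π y * z * (π y)⁻¹ ∈ ((o2 R₀).subgroupOf X).map π := by
          rintro y hy _ ⟨x, hx, rfl⟩
          refine ⟨y * x * y⁻¹, ?_, by rw [map_mul, map_mul, map_inv]⟩
          exact (mem_normalizer_iff.1 (le_normalizer_o2 R₀ hy) _).1 hx
        rw [mem_normalizer_iff]
        refine fun z => ⟨key y hy z, fun hz => ?_⟩
        have h2 := key y⁻¹ (inv_mem hy) _ hz
        have e : π y⁻¹ * (π y * z * (π y)⁻¹) * (π y⁻¹)⁻¹ = z := by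
          rw [map_inv]
          group
        rwa [e] at h2
    · -- exact
      intro m hm hm1
      obtain ⟨v, hv, hvD, rfl⟩ := hlam m hm hm1
      rw [hcard, ← k.exact h ml hK hv hvD]
      rw [horbm v hv, ← relIndex_comap, hcv, relIndex_subgroupOf (orb_le_UU hv)]
    · -- lt
      rw [hcard, ← index_comap_of_surjective _ hqs, hcv]
      refine lt_of_le_of_lt ?_ (k.count h ml hK)
      refine rel_mono (UU_le fun x hx v hv a ha => ?_) _
      by_cases hvD : v ∈ D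
      · rw [h.fixD x v hvD, h.fixD a v hvD, inv_mul_cancel]
        exact one_mem _
      · have h1 : a ∈ B₁ ⊓ km C (orb X v : Set W) D := by
          rw [k.cent h hv hvD]
          exact ha
        exact h1.2.2 _ (smul_mem_orb_self hx)

end Cfsg.Agent.Omega.NO3b.ExEnd
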