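import Cfsg.Agent.Omega.NO3b.EndX.AbsP
import Cfsg.Agent.Omega.NO3b.ExEnd.Quot

/-!
# The exact end: `O(H) = 1`

* `oddFree_of` : if the odd normal subgroups centralise the intersection of the `⟨v^H⟩`, `1 ≠ v ∈ lam`, there are none;
* **`Pnt.exists_end`** : P1 of #22392 in the abstract frame.
-/

set_option autoImplicit false

namespace Cfsg.Agent.Omega.NO3b.ExEnd

open Subgroup Cfsg Cfsg.Agent.ZN Cfsg.Agent.ClassTwoFusion.Quad Cfsg.Agent.Omega.ML.MinFrame
open Cfsg.Agent.Omega.ML.Final (MLK)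
open Cfsg.Agent.Omega.NO3b.EndX
open Cfsg.Agent.MinSimple.VModule

universe u v

variable {H : Type u} [Group H] [Finite H] {M : Type v} [Group M] [Finite M] [MulDistribMulAction H M]

theorem oddFree_of (ml : MLK.{u, v}) (hK : IsKGroup H) {T B Y : Subgroup H} {lam : Subgroup M}
    (h : Abs T B Y lam)
    (hF : ∀ F : Subgroup H, F.Normal → Odd (Nat.card F) → ∀ m : M,
      (∀ v ∈ lam, v ≠ 1 → m ∈ orb (⊤ : Subgroup H) v) → ∀ f ∈ F, f • m = m) : OddFree H := by
  intro F hFn hFo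
  have hA := h.toABS
  have hfK : ∀ f ∈ F, Odd (orderOf f) := by
    intro f hf
    have h1 : orderOf f ∣ Nat.card F := by
      have h2 := orderOf_dvd_natCard (⟨f, hf⟩ : F)
      rwa [Subgroup.orderOf_mk] at h2
    exact hFo.of_dvd_nat h1
  have key : ∀ f ∈ F, ∀ m : M, ∀ v ∈ lam, v ≠ 1 → f • m * m⁻¹ ∈ orb (⊤ : Subgroup H) v := by
    intro f hf m v hv hv1
    have h1 : m ∈ hA.CK ⊔ orb (⊤ : Subgroup H) v := by
      rw [hA.sup_top ml hK hv hv1]
      exact mem_top m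
    have hN : (hA.CK).Normal := hA.norm _
    obtain ⟨c, hc, u, hu, rfl⟩ := Subgroup.mem_sup_of_normal_left.1 h1
    have h2 : f • c = c := hc f (mem_oddGen (mem_top f) (hfK f hf))
    have h3 : f • (c * u) * (c * u)⁻¹ = f • u * u⁻¹ := by
      rw [smul_mul', h2, mul_inv_rev, hA.comm u⁻¹ c⁻¹, hA.comm c (f • u)]
      group
    rw [h3]
    exact mul_mem (smul_mem_orb (mem_top f) hu) (inv_mem hu)
  rw [eq_bot_iff]
  intro f hf
  rw [mem_bot]
  refine h.faith f fun m => ?_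
  have h1 : f • (f • m * m⁻¹) = f • m * m⁻¹ :=
    hF F hFn hFo _ (fun v hv hv1 => key f hf m v hv hv1) f hf
  set d := f • m * m⁻¹ with hd
  have h2 : f • m = d * m := by rw [hd, inv_mul_cancel_right]
  have h3 : ∀ n : ℕ, f ^ n • m = d ^ n * m := by
    intro n
    induction n with
    | zero => rw [pow_zero, pow_zero, one_smul, one_mul]
    | succ n ih =>
      have h4 : ∀ n : ℕ, f • d ^ n = d ^ n := by
        intro n
        rw [smul_pow', h1]
      rw [pow_succ', mul_smul, ih, smul_mul', h4, h2, ← mul_assoc, pow_succ]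
  have h4 := h3 (orderOf f)
  rw [pow_orderOf_eq_one, one_smul] at h4
  obtain ⟨k, hk⟩ := hfK f hf
  have h5 : d ^ orderOf f = d := by
    rw [hk, pow_succ, pow_mul, pow_two, h.sq, one_pow, one_mul]
  rw [h5] at h4
  rw [h2]
  exact h4.symm

/-- **P1** in the abstract frame -/
theorem Pnt.exists_end {C : Type u} [Group C] [Finite C] {W : Type v} [CommGroup W] [Finite W]
    [MulDistribMulAction C W] (ml : MLK.{u, v}) (hK : IsKGroup C) {T : Subgroup C} {D Λ : Subgroup W}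
    {P B E : Subgroup C} {L : W → Subgroup W} (h : Pnt T D Λ P B E) (l : Lab T D Λ P L) :
    ∃ (X : Subgroup C) (U : Subgroup W), T ≤ X ∧ (∀ x ∈ X, ∀ w ∈ U, x • w ∈ U) ∧ D ≤ U ∧ Λ ≤ U ∧
      ∃ (H : Type u) (_ : Group H) (_ : Finite H) (M : Type v) (_ : Group M) (_ : Finite M)
        (_ : MulDistribMulAction H M) (π : X →* H) (q : U →* M), Function.Surjective π ∧ Function.Surjective q ∧
        (∀ w : U, q w = 1 ↔ (w : W) ∈ D) ∧
        (∀ (x : X) (w w' : U), (w' : W) = (x : C) • (w : W) → q w' = π x • q w) ∧ IsKGroup H ∧ OddFree H ∧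
        ∃ B' Y, Abs ((T.subgroupOf X).map π) B' Y ((Λ.subgroupOf U).map q) := by
  obtain ⟨X, U, h1, h2, h3, h4, H, iG, iF, M, iM, iFM, iA, π, q, h5, h6, h7, h8, h9, h10, B', Y, h11⟩ :=
    h.exists_abs ml hK l
  exact ⟨X, U, h1, h2, h3, h4, H, iG, iF, M, iM, iFM, iA, π, q, h5, h6, h7, h8, h9, oddFree_of ml h9 h11 h10, B', Y,
    h11⟩

end Cfsg.Agent.Omega.NO3b.ExEnd
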