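import Cfsg.Agent.Omega.ML.Final

/-!
# The exact end of NotFF at a closed point, P1 of #22392 (texts #22122 helper410, #22075 helper264, #22039): the frame

`C` acts on the elementary abelian 2-group `W`.

* `cm Z F = {w | [w, F] ≤ Z}`, `iv Z = N_C(Z)`, `km S Z = {c ∈ N_C(Z) | [s, c] ∈ Z for s ∈ S}`;
* **`Pnt T D Λ P B E`** : the input, `C = C_G(D)`, `W = ⟨V^C⟩`, `Λ = lam`, `P = C₊`, from `Closed.Out e lam T₀`;
* **`Lab T D Λ P L`** : the labels `L v = [v, T]`, and `C_W(T ∩ Y) ≤ C_W(Y)` for `Y` normalised by `T` (strong fix).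
-/

set_option autoImplicit false

namespace Cfsg.Agent.Omega.NO3b.ExEnd

open Subgroup Cfsg Cfsg.Agent.ZN Cfsg.Agent.ClassTwoFusion.Quad Cfsg.Agent.Omega.ML.MinFrame

universe u v

section defs

variable {C : Type u} [Group C] {W : Type v} [CommGroup W] [MulDistribMulAction C W]

/-- `{w | [w, F] ≤ Z}` -/
def cm (Z : Subgroup W) (F : Set C) : Subgroup W where
  carrier := {w | ∀ a ∈ F, w⁻¹ * a • w ∈ Z}
  one_mem' := fun a _ => by rw [smul_one, inv_one, one_mul]; exact one_mem _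
  mul_mem' := fun {x y} hx hy a ha => by
    have h := mul_mem (hx a ha) (hy a ha)
    have e : (x * y)⁻¹ * a • (x * y) = x⁻¹ * a • x * (y⁻¹ * a • y) := by
      rw [smul_mul', mul_inv_rev, mul_comm y⁻¹ x⁻¹]
      exact mul_mul_mul_comm _ _ _ _
    rw [e]
    exact h
  inv_mem' := fun {x} hx a ha => by
    have h := inv_mem (hx a ha)
    have e : x⁻¹⁻¹ * a • x⁻¹ = (x⁻¹ * a • x)⁻¹ := by
      rw [smul_inv', mul_inv_rev, inv_inv, mul_comm]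
    rw [e]
    exact h

/-- `N_C(Z)` -/
def iv (Z : Subgroup W) : Subgroup C where
  carrier := {c | ∀ z ∈ Z, c • z ∈ Z ∧ c⁻¹ • z ∈ Z}
  one_mem' := fun z hz => by rw [inv_one, one_smul]; exact ⟨hz, hz⟩
  mul_mem' := fun {a b} ha hb z hz => by
    rw [mul_smul, mul_inv_rev, mul_smul]
    exact ⟨(ha _ (hb z hz).1).1, (hb _ (ha z hz).2).2⟩
  inv_mem' := fun {a} ha z hz => by
    rw [inv_inv]
    exact ⟨(ha z hz).2, (ha z hz).1⟩

/-- `{c ∈ N_C(Z) | [s, c] ∈ Z for s ∈ S}` -/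
def km (C : Type u) [Group C] [MulDistribMulAction C W] (S : Set W) (Z : Subgroup W) : Subgroup C where
  carrier := {c | c ∈ iv (C := C) Z ∧ ∀ s ∈ S, s⁻¹ * c • s ∈ Z}
  one_mem' := ⟨one_mem _, fun s _ => by rw [one_smul, inv_mul_cancel]; exact one_mem _⟩
  mul_mem' := fun {a b} ha hb => ⟨mul_mem ha.1 hb.1, fun s hs => by
    have h := mul_mem (ha.2 s hs) (ha.1 _ (hb.2 s hs)).1
    have e : s⁻¹ * (a * b) • s = s⁻¹ * a • s * a • (s⁻¹ * b • s) := by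
      rw [smul_mul', smul_inv', mul_smul]
      group
    rw [e]
    exact h⟩
  inv_mem' := fun {a} ha => ⟨inv_mem ha.1, fun s hs => by
    have h := (ha.1 _ (inv_mem (ha.2 s hs))).2
    have e : s⁻¹ * a⁻¹ • s = a⁻¹ • (s⁻¹ * a • s)⁻¹ := by
      rw [smul_inv', smul_mul', smul_inv', inv_smul_smul, mul_inv_rev, inv_inv, mul_comm]
    rw [e]
    exact h⟩

theorem mem_cm {Z : Subgroup W} {F : Set C} {w : W} : w ∈ cm Z F ↔ ∀ a ∈ F, w⁻¹ * a • w ∈ Z := Iff.rfl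

theorem mem_iv {Z : Subgroup W} {c : C} : c ∈ iv (C := C) Z ↔ ∀ z ∈ Z, c • z ∈ Z ∧ c⁻¹ • z ∈ Z := Iff.rfl

theorem mem_km {S : Set W} {Z : Subgroup W} {c : C} :
    c ∈ km C S Z ↔ c ∈ iv (C := C) Z ∧ ∀ s ∈ S, s⁻¹ * c • s ∈ Z := Iff.rfl

/-- **The input**: an exact end at a closed point. -/
structure Pnt (T : Subgroup C) (D Λ : Subgroup W) (P B E : Subgroup C) : Prop where
  sq : ∀ w : W, w * w = 1
  two : IsPGroup 2 T
  odd : ¬ 2 ∣ T.index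
  fixD : ∀ c : C, ∀ d ∈ D, c • d = d
  DΛ : D ≤ Λ
  four : 4 * Nat.card D ≤ Nat.card Λ
  TP : T ≤ P
  stab : ∀ v ∈ Λ, v ∉ D → ∀ c : C, c ∈ P ↔ v⁻¹ * c • v ∈ D
  BP : B ≤ o2 P
  Bsq : ∀ b ∈ B, b * b = 1
  EB : E ≤ B
  mem_E : ∀ v ∈ Λ, v ∉ D → ∀ b ∈ B, b ∈ E ↔ ∀ c : C, (c • v)⁻¹ * b • c • v ∈ D
  ex : ∀ v ∈ Λ, v ∉ D → (cm D (B : Set C)).relIndex (orb (⊤ : Subgroup C) v) = E.relIndex B
  lt : (cm D (B : Set C)).index < E.relIndex B ^ 2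

/-- **The labels** `L v = [v, T]` and the trace lemma (strong fix). -/
structure Lab (T : Subgroup C) (D Λ : Subgroup W) (P : Subgroup C) (L : W → Subgroup W) : Prop where
  LD : ∀ v, L v ≤ D
  lab : ∀ v ∈ Λ, v ∉ D → ∀ c ∈ P, v⁻¹ * c • v ∈ L v
  inf : ∀ d, (∀ v ∈ Λ, v ∉ D → d ∈ L v) → d = 1
  tr : ∀ Y : Subgroup C, T ≤ normalizer (Y : Set C) → ∀ w : W, (∀ t ∈ T ⊓ Y, t • w = w) → ∀ y ∈ Y, y • w = w

end defs

end Cfsg.Agent.Omega.NO3b.ExEnd
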