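import Cfsg.Agent.Omega.NO3b.EndX.Sec

/-!
# The exact end of NotFF at a closed point: from the abstract output (helper711) to the level of `G`

`CG` acts on `WG` by conjugation (`CG = C_G(D)`, `WG = ⟨V^CG⟩`), `X ≤ CG`, `U ≤ WG` as in helper711's
`Pnt.exists_end`; the output is helper768's `Sec` with helper410's `Abs`
(= helper768's `SecAt S V D lam` for `T = S ⊓ C_G(D)`, `CG = C_G(D)`, `WG = ⟨V^CG⟩`).

* `secX`, `secPi` : the group `X` as a subgroup of `G` and the homomorphism `π` on it;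
* `map_secPi` : the image of `T`;
* `exists_sec` : **the transfer**.

Author: helper111.
-/

set_option autoImplicit false

namespace Cfsg.Agent.Omega.NO3b.ExEnd

open Subgroup Cfsg Cfsg.Agent.ZN
open Cfsg.Agent.Omega.NO3b.EndX (Abs Sec OddFree)

universe u

section one

variable {G : Type u} [Group G] {A : Subgroup G} (X : Subgroup A) {H : Type u} [Group H] (π : X →* H)

/-- `X ≤ A ≤ G` as a subgroup of `G` -/
def secX : Subgroup G := X.map A.subtype

theorem secX_le : secX X ≤ A := map_subtype_le X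

theorem mem_secX {x : G} : x ∈ secX X ↔ ∃ h : x ∈ A, (⟨x, h⟩ : A) ∈ X := by
  constructor
  · rintro ⟨a, ha, rfl⟩
    exact ⟨a.2, ha⟩
  · rintro ⟨h, hx⟩
    exact ⟨⟨x, h⟩, hx, rfl⟩

/-- the isomorphism -/
noncomputable def secE : secX X ≃* X := (X.equivMapOfInjective A.subtype A.subtype_injective).symm

theorem secE_coe (x : secX X) : (((secE X x : X) : A) : G) = x := by
  have h := (X.equivMapOfInjective A.subtype A.subtype_injective).apply_symm_apply x
  have h2 := congrArg (fun y : secX X => (y : G)) h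
  exact h2

/-- the homomorphism -/
noncomputable def secPi : secX X →* H := π.comp (secE X).toMonoidHom

theorem secPi_apply (x : secX X) : secPi X π x = π (secE X x) := rfl

theorem secPi_mk {x : G} (h : x ∈ A) (hx : (⟨x, h⟩ : A) ∈ X) :
    secPi X π ⟨x, (mem_secX X).2 ⟨h, hx⟩⟩ = π ⟨⟨x, h⟩, hx⟩ := by
  rw [secPi_apply]
  congr 1
  apply Subtype.ext
  apply Subtype.ext
  exact secE_coe X _

theorem secPi_surj (h : Function.Surjective π) : Function.Surjective (secPi X π) :=
  h.comp (secE X).surjective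

/-- the image of `T` -/
theorem map_secPi (T : Subgroup G) :
    (T.subgroupOf (secX X)).map (secPi X π) = ((T.subgroupOf A).subgroupOf X).map π := by
  ext y
  constructor
  · rintro ⟨x, hx, rfl⟩
    refine ⟨secE X x, ?_, rfl⟩
    rw [SetLike.mem_coe, mem_subgroupOf, mem_subgroupOf, secE_coe]
    exact mem_subgroupOf.1 hx
  · rintro ⟨x, hx, rfl⟩
    have hx' : ((x : A) : G) ∈ T := mem_subgroupOf.1 (mem_subgroupOf.1 hx)
    refine ⟨⟨((x : A) : G), (mem_secX X).2 ⟨(x : A).2, x.2⟩⟩, mem_subgroupOf.2 hx', ?_⟩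
    exact secPi_mk X π (x : A).2 x.2

end one

/-- **The transfer to the level of `G`.** -/
theorem exists_sec {G : Type u} [Group G] {CG WG T D lam : Subgroup G} [MulDistribMulAction CG WG]
    (hact : ∀ (c : CG) (w : WG), ((c • w : WG) : G) = (c : G) * w * (c : G)⁻¹)
    (TC : T ≤ CG) (CD : CG ≤ centralizer (D : Set G)) (DW : D ≤ WG) (lW : lam ≤ WG)
    (h : ∃ (X : Subgroup CG) (U : Subgroup WG), T.subgroupOf CG ≤ X ∧ (∀ x ∈ X, ∀ w ∈ U, x • w ∈ U) ∧
      D.subgroupOf WG ≤ U ∧ lam.subgroupOf WG ≤ U ∧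
      ∃ (H : Type u) (_ : Group H) (_ : Finite H) (M : Type u) (_ : Group M) (_ : Finite M)
        (_ : MulDistribMulAction H M) (π : X →* H) (q : U →* M), Function.Surjective π ∧ Function.Surjective q ∧
        (∀ w : U, q w = 1 ↔ (w : WG) ∈ D.subgroupOf WG) ∧
        (∀ (x : X) (w w' : U), (w' : WG) = (x : CG) • (w : WG) → q w' = π x • q w) ∧ IsKGroup H ∧ OddFree H ∧
        ∃ B' Y : Subgroup H, Abs (((T.subgroupOf CG).subgroupOf X).map π) B' Y
          (((lam.subgroupOf WG).subgroupOf U).map q)) :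
    ∃ (X U : Subgroup G) (H : Type u) (_ : Group H) (_ : Finite H) (M : Type u) (_ : Group M) (_ : Finite M)
      (_ : MulDistribMulAction H M) (π : X →* H) (p : U →* M) (B' Y : Subgroup H),
      Sec T D X U lam π p ∧ IsKGroup H ∧ OddFree H ∧ U ≤ WG ∧
        Abs ((T.subgroupOf X).map π) B' Y ((lam.subgroupOf U).map p) := by
  obtain ⟨X, U, hTX, hXU, hDU, hlU, H, iH, fH, M, iM, fM, act, π, q, hπ, hq, hker, heq, hK, hO, B', Y, habs⟩ := h
  refine ⟨secX X, secX U, H, iH, fH, M, iM, fM, act, secPi X π, secPi U q, B', Y, ?_, hK, hO, secX_le U, ?_⟩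
  · have hnorm : ∀ x ∈ secX X, ∀ u ∈ secX U, x * u * x⁻¹ ∈ secX U := by
      intro x hx u hu
      obtain ⟨hxC, hxX⟩ := (mem_secX X).1 hx
      obtain ⟨huW, huU⟩ := (mem_secX U).1 hu
      have h1 := hXU _ hxX _ huU
      have h2 := hact ⟨x, hxC⟩ ⟨u, huW⟩
      refine (mem_secX U).2 ⟨?_, ?_⟩
      · have h3 := ((⟨x, hxC⟩ : CG) • (⟨u, huW⟩ : WG)).2
        rwa [h2] at h3
      · have e : ((⟨x, hxC⟩ : CG) • (⟨u, huW⟩ : WG)) = ⟨x * u * x⁻¹, by
            have h3 := ((⟨x, hxC⟩ : CG) • (⟨u, huW⟩ : WG)).2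
            rwa [h2] at h3⟩ := Subtype.ext h2
        rwa [e] at h1
    refine
      { TX := fun t ht => (mem_secX X).2 ⟨TC ht, hTX (mem_subgroupOf.2 ht)⟩
        XD := (secX_le X).trans CD
        XU := ?_
        DU := fun d hd => (mem_secX U).2 ⟨DW hd, hDU (mem_subgroupOf.2 hd)⟩
        lamU := fun v hv => (mem_secX U).2 ⟨lW hv, hlU (mem_subgroupOf.2 hv)⟩
        surj := secPi_surj X π hπ
        psurj := secPi_surj U q hq
        ker := ?_
        eqv := ?_ }
    · intro x hx
      rw [mem_normalizer_iff]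
      intro u
      constructor
      · exact fun hu => hnorm x hx u hu
      · intro hu
        have h1 := hnorm x⁻¹ (inv_mem hx) _ hu
        have e : x⁻¹ * (x * u * x⁻¹) * x⁻¹⁻¹ = u := by group
        rwa [e] at h1
    · intro u
      rw [secPi_apply, hker, mem_subgroupOf, secE_coe]
    · intro x u u' he
      rw [secPi_apply, secPi_apply, secPi_apply]
      refine heq _ _ _ ?_
      apply Subtype.ext
      rw [hact, secE_coe, secE_coe, secE_coe]
      exact he
  · rw [map_secPi, map_secPi]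
    exact habs

end Cfsg.Agent.Omega.NO3b.ExEnd
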