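import Cfsg.Agent.Omega.NO3b.ExEnd.Sec

/-!
# The exact end, (1), (2): the choice of `B₁` and `X`

* `Good T D Λ P B E` : `E ≤ B`, `B ≤ O₂(P)` and (i) `|⟨v^C⟩ : C(B)| = |B : E|` for all `v ∈ Λ \ D`;
* **`Pick h X B₁`** : `B₁` minimal with (i), (ii), `X` minimal with `T ≤ X`, `B₁ ≰ O₂(X)`;
  `Pick.low`, `Pick.cent` : `C_{B₁}(⟨v^X⟩) = B₁ ∩ O₂(X)`, **`Pick.ex`**, **`Pick.lt`** : the counts.
-/

set_option autoImplicit false

namespace Cfsg.Agent.Omega.NO3b.ExEnd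

open Subgroup Cfsg Cfsg.Agent.ZN Cfsg.Agent.ClassTwoFusion.Quad Cfsg.Agent.Omega.ML.MinFrame
open Cfsg.Agent.MinSimple.VModule (o2_isPGroup o2_le le_o2 le_normalizer_o2 o2_le_of_sylow)
open Cfsg.Agent.Omega.ML.Final (MLK)

universe u v

variable {C : Type u} [Group C] {W : Type v} [CommGroup W] [MulDistribMulAction C W]

theorem rel_pos {G : Type*} [Group G] [Finite G] (A B : Subgroup G) : 0 < A.relIndex B :=
  Nat.pos_of_ne_zero index_ne_zero_of_finite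

theorem rel_anti {G : Type*} [Group G] [Finite G] {A B : Subgroup G} (h : A ≤ B) (K : Subgroup G) :
    B.relIndex K ≤ A.relIndex K := relIndex_le_of_le_left h index_ne_zero_of_finite

theorem rel_mono {G : Type*} [Group G] [Finite G] {B K : Subgroup G} (h : B ≤ K) (A : Subgroup G) :
    A.relIndex B ≤ A.relIndex K := relIndex_le_of_le_right h index_ne_zero_of_finite

/-- `|L : H| = |K ∩ L : H ∩ L| |L : K|` -/
theorem rel_chain {G : Type*} [Group G] {A K : Subgroup G} (h : A ≤ K) (L : Subgroup G) :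
    A.relIndex (K ⊓ L) * K.relIndex L = A.relIndex L := by
  rw [relIndex_inf_mul_relIndex, inf_eq_left.2 h]

section basic

variable {T : Subgroup C} {D Λ : Subgroup W} {P B E : Subgroup C} (h : Pnt T D Λ P B E)
include h

theorem Pnt.iv_D (c : C) : c ∈ iv (C := C) D := fun d hd => by
  rw [h.fixD c d hd, h.fixD c⁻¹ d hd]
  exact ⟨hd, hd⟩

theorem Pnt.mem_P {v : W} (hv : v ∈ Λ) (hvD : v ∉ D) {c : C} : c ∈ P ↔ c ∈ km C ({v} : Set W) D := by
  rw [h.stab v hv hvD c, mem_km]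
  exact ⟨fun hc => ⟨h.iv_D c, fun s hs => by rw [Set.mem_singleton_iff.1 hs]; exact hc⟩, fun hc => hc.2 v rfl⟩

/-- elements of a subgroup of `P` normalised by `X` centralise `⟨v^X⟩` mod `D` -/
theorem Pnt.le_km {v : W} (hv : v ∈ Λ) (hvD : v ∉ D) {X N : Subgroup C} (hNP : N ≤ P)
    (hn : X ≤ normalizer (N : Set C)) : N ≤ km C (orb X v : Set W) D := by
  intro c hc
  rw [mem_km_orb]
  refine ⟨h.iv_D c, fun x hx => ?_⟩
  rw [comm_smul, h.fixD]
  · exact (h.stab v hv hvD _).1 (hNP ((mem_normalizer_iff''.1 (hn hx) c).1 hc))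
  · exact (h.stab v hv hvD _).1 (hNP ((mem_normalizer_iff''.1 (hn hx) c).1 hc))

/-- `B ∩ C(⟨v^X⟩ mod D) ≤ O₂(X)` -/
theorem Pnt.cent_le {v : W} (hv : v ∈ Λ) (hvD : v ∉ D) {X B₁ : Subgroup C} (hB₁ : B₁ ≤ B) (hBX : B₁ ≤ X) :
    B₁ ⊓ km C (orb X v : Set W) D ≤ o2 X := by
  have h1 : B₁ ⊓ (X ⊓ km C (orb X v : Set W) D) ≤ o2 X := by
    refine inf_le_o2 (Y := P) (hB₁.trans h.BP) ?_ inf_le_left
      (le_norm_inf le_normalizer (norm_km (fun x _ => h.iv_D x) fun x hx s hs => smul_mem_orb hx hs))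
    intro c hc
    exact (h.mem_P hv hvD).2 (km_anti (Set.singleton_subset_iff.2 (mem_orb_self X v)) hc.2)
  exact (le_inf inf_le_left (le_inf (inf_le_left.trans hBX) inf_le_right)).trans h1

theorem Pnt.exists_v [Finite W] : ∃ v ∈ Λ, v ∉ D := by
  by_contra hc
  push Not at hc
  have h1 := card_le_of_le (show Λ ≤ D from hc)
  have h2 := h.four
  have h3 : 0 < Nat.card D := Nat.card_pos
  omega

theorem Pnt.BT [Finite C] : B ≤ T := by
  have h1 : ¬ 2 ∣ T.relIndex P := fun h2 => h.odd (by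
    rw [← relIndex_mul_index h.TP]
    exact h2.mul_right _)
  exact h.BP.trans (o2_le_of_sylow h.two h1)

theorem Pnt.o2T [Finite C] {X : Subgroup C} (hTX : T ≤ X) : o2 X ≤ T := by
  have h1 : ¬ 2 ∣ T.relIndex X := fun h2 => h.odd (by
    rw [← relIndex_mul_index hTX]
    exact h2.mul_right _)
  exact o2_le_of_sylow h.two h1

theorem Pnt.odd_rel {X : Subgroup C} (hTX : T ≤ X) : ¬ 2 ∣ T.relIndex X := fun h2 => h.odd (by
    rw [← relIndex_mul_index hTX]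
    exact h2.mul_right _)

theorem Pnt.E_eq {v : W} (hv : v ∈ Λ) (hvD : v ∉ D) : B ⊓ km C (orb (⊤ : Subgroup C) v : Set W) D = E := by
  ext b
  rw [mem_inf, mem_km_orb]
  constructor
  · rintro ⟨h1, -, h2⟩
    exact (h.mem_E v hv hvD b h1).2 fun c => h2 c (mem_top c)
  · intro hb
    exact ⟨h.EB hb, h.iv_D b, fun c _ => (h.mem_E v hv hvD b (h.EB hb)).1 hb c⟩

/-- `E ≤ O₂(C)` -/
theorem Pnt.E_le [Finite W] : E ≤ o2 (⊤ : Subgroup C) := by
  obtain ⟨v, hv, hvD⟩ := h.exists_v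
  rw [← h.E_eq hv hvD]
  exact h.cent_le hv hvD le_rfl le_top

/-- `B ∩ O₂(C) ≤ E` -/
theorem Pnt.inf_le_E [Finite C] [Finite W] : B ⊓ o2 (⊤ : Subgroup C) ≤ E := by
  obtain ⟨v, hv, hvD⟩ := h.exists_v
  rw [← h.E_eq hv hvD]
  exact inf_le_inf_left _ (h.le_km hv hvD ((h.o2T le_top).trans h.TP) (le_normalizer_o2 _))

theorem Pnt.o2_le_top [Finite C] {X : Subgroup C} (hTX : T ≤ X) : o2 (⊤ : Subgroup C) ≤ o2 X :=
  le_o2 ((h.o2T le_top).trans hTX) (o2_isPGroup _) (le_top.trans (le_normalizer_o2 _))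

end basic

/-- the two conditions -/
structure Cnd (T : Subgroup C) (D Λ : Subgroup W) (B E B₁ : Subgroup C) : Prop where
  le : B₁ ≤ B
  EB : E ≤ B₁
  ex : ∀ v ∈ Λ, v ∉ D → (cm D (B₁ : Set C)).relIndex (orb (⊤ : Subgroup C) v) = E.relIndex B₁
  lt : (cm D (B₁ : Set C)).index < E.relIndex B₁ ^ 2

/-- **the choice** -/
structure Pick (T : Subgroup C) (D Λ : Subgroup W) (P B E X B₁ : Subgroup C) : Prop extends
    Cnd T D Λ B E B₁ where
  min : ∀ B₂, Cnd T D Λ B E B₂ → B₂ ≤ B₁ → B₂ = B₁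
  TX : T ≤ X
  nle : ¬ B₁ ≤ o2 X
  low : ∀ R : Subgroup C, T ≤ R → R < X → B₁ ≤ o2 R

theorem Pnt.exists_pick [Finite C] [Finite W] {T : Subgroup C} {D Λ : Subgroup W} {P B E : Subgroup C}
    (h : Pnt T D Λ P B E) : ∃ X B₁, Pick T D Λ P B E X B₁ := by
  classical
  obtain ⟨B₁, h1, h1m⟩ := Set.exists_min_image {B₁ : Subgroup C | Cnd T D Λ B E B₁} (fun B₁ => Nat.card B₁)
    (Set.toFinite _) ⟨B, le_rfl, h.EB, h.ex, h.lt⟩
  have h2 : ¬ B₁ ≤ o2 (⊤ : Subgroup C) := by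
    intro h2
    have h3 : B₁ ≤ E := (le_inf h1.le h2).trans h.inf_le_E
    have h4 := h1.lt
    rw [relIndex_eq_one.2 h3] at h4
    have h5 : 0 < (cm D (B₁ : Set C)).index := Nat.pos_of_ne_zero index_ne_zero_of_finite
    omega
  obtain ⟨X, h3, h3m⟩ := Set.exists_min_image {X : Subgroup C | T ≤ X ∧ ¬ B₁ ≤ o2 X} (fun X => Nat.card X)
    (Set.toFinite _) ⟨⊤, le_top, h2⟩
  refine ⟨X, B₁, h1, fun B₂ hB₂ hle => ?_, h3.1, h3.2, fun R hTR hRX => ?_⟩
  · exact eq_of_le_of_card_ge hle (h1m B₂ hB₂)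
  · by_contra hc
    have h4 := h3m R ⟨hTR, hc⟩
    exact absurd (eq_of_le_of_card_ge hRX.le h4) hRX.ne

namespace Pick

variable {T : Subgroup C} {D Λ : Subgroup W} {P B E X B₁ : Subgroup C} (k : Pick T D Λ P B E X B₁)
  (h : Pnt T D Λ P B E)
include k h

theorem BX [Finite C] : B₁ ≤ X := (k.le.trans h.BT).trans k.TX

/-- `C_{B₁}(⟨v^X⟩ mod D) = B₁ ∩ O₂(X)` -/
theorem cent [Finite C] {v : W} (hv : v ∈ Λ) (hvD : v ∉ D) :
    B₁ ⊓ km C (orb X v : Set W) D = B₁ ⊓ o2 X := by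
  apply le_antisymm
  · exact le_inf inf_le_left (h.cent_le hv hvD k.le (k.BX h))
  · exact inf_le_inf_left _ (h.le_km hv hvD ((h.o2T k.TX).trans h.TP) (le_normalizer_o2 _))

theorem E_le [Finite C] [Finite W] : E ≤ B₁ ⊓ o2 X := le_inf k.EB (h.E_le.trans (h.o2_le_top k.TX))

/-- the count for one `v` -/
theorem aux [Finite C] [Finite W] (ml : MLK.{u, v}) (hK : IsKGroup C) {v : W} (hv : v ∈ Λ) (hvD : v ∉ D) :
    (cm D (B₁ : Set C)).relIndex (orb X v) = (B₁ ⊓ o2 X).relIndex B₁ ∧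
      (cm D ((B₁ ⊓ o2 X : Subgroup C) : Set C)).relIndex (orb (⊤ : Subgroup C) v) = E.relIndex (B₁ ⊓ o2 X) := by
  set E₀ := B₁ ⊓ o2 X with hE₀
  have hE0B : E₀ ≤ B₁ := inf_le_left
  have hEE : E ≤ E₀ := k.E_le h
  have hTP : T ≤ km C ({v} : Set W) D := fun t ht => (h.mem_P hv hvD).1 (h.TP ht)
  have hPX : X ⊓ km C ({v} : Set W) D ≤ P := fun c hc => (h.mem_P hv hvD).2 hc.2
  -- (ML) on `⟨v^X⟩`
  have m1 : (km C (orb X v : Set W) D).relIndex B₁ ≤ (cm D (B₁ : Set C)).relIndex (orb X v) := by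
    refine ml_sec ml hK h.sq h.two (h.odd_rel k.TX) (fun x _ => h.iv_D x) hTP ?_ fun a ha => h.Bsq a (k.le ha)
    refine inf_le_o2' (k.le.trans h.BP) (le_inf (k.BX h) ?_) hPX
    exact fun b hb => (h.mem_P hv hvD).1 (h.TP (h.BT (k.le hb)))
  rw [← inf_relIndex_right, inf_comm, k.cent h hv hvD] at m1
  -- (ML) on `⟨v^C⟩` for `E₀`
  have m2 : (km C (orb (⊤ : Subgroup C) v : Set W) D).relIndex E₀ ≤
      (cm D (E₀ : Set C)).relIndex (orb (⊤ : Subgroup C) v) := by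
    refine ml_sec ml hK h.sq h.two (h.odd_rel le_top) (fun x _ => h.iv_D x) hTP ?_
      fun a ha => h.Bsq a (k.le (hE0B ha))
    rw [top_inf_eq]
    have e1 : km C ({v} : Set W) D = P := by
      ext c
      exact (h.mem_P hv hvD).symm
    rw [e1]
    exact (hE0B.trans k.le).trans h.BP
  have e2 : (km C (orb (⊤ : Subgroup C) v : Set W) D).relIndex E₀ = E.relIndex E₀ := by
    rw [← inf_relIndex_right, ← inf_relIndex_right E]
    congr 1
    rw [← h.E_eq hv hvD]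
    apply le_antisymm
    · exact le_inf (le_inf (inf_le_right.trans (hE0B.trans k.le)) inf_le_left) inf_le_right
    · exact le_inf (inf_le_left.trans inf_le_right) inf_le_right
  rw [e2] at m2
  -- the chain
  have c1 : E.relIndex E₀ * E₀.relIndex B₁ = E.relIndex B₁ := relIndex_mul_relIndex _ _ _ hEE hE0B
  have c2 := rel_chain (cm_anti D (SetLike.coe_subset_coe.2 hE0B) : cm D (B₁ : Set C) ≤ cm D (E₀ : Set C))
    (orb (⊤ : Subgroup C) v)
  have c3 : (cm D (B₁ : Set C)).relIndex (orb X v) ≤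
      (cm D (B₁ : Set C)).relIndex (cm D (E₀ : Set C) ⊓ orb (⊤ : Subgroup C) v) := by
    refine rel_mono (le_inf ?_ (orb_le fun x _ => smul_mem_orb_self (mem_top x))) _
    intro w hw a ha
    have h1 : a ∈ B₁ ⊓ km C (orb X v : Set W) D := by
      rw [k.cent h hv hvD]
      exact ha
    exact h1.2.2 w hw
  rw [k.ex v hv hvD, ← c1] at c2
  have p1 := rel_pos E E₀
  have p2 := rel_pos E₀ B₁
  constructor
  · refine le_antisymm ?_ m1
    refine c3.trans ?_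
    -- `d c = a b`, `a ≤ c`
    by_contra hc
    push Not at hc
    have h1 : E.relIndex E₀ * E₀.relIndex B₁ <
        (cm D (B₁ : Set C)).relIndex (cm D (E₀ : Set C) ⊓ orb (⊤ : Subgroup C) v) *
          (cm D (E₀ : Set C)).relIndex (orb (⊤ : Subgroup C) v) := by
      calc E.relIndex E₀ * E₀.relIndex B₁ ≤ (cm D (E₀ : Set C)).relIndex (orb (⊤ : Subgroup C) v) * E₀.relIndex B₁ :=
            Nat.mul_le_mul_right _ m2
        _ = E₀.relIndex B₁ * (cm D (E₀ : Set C)).relIndex (orb (⊤ : Subgroup C) v) := mul_comm _ _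
        _ < _ := Nat.mul_lt_mul_of_pos_right hc (rel_pos _ _)
    exact absurd c2 h1.ne'
  · refine le_antisymm ?_ m2
    have h1 : E₀.relIndex B₁ * (cm D (E₀ : Set C)).relIndex (orb (⊤ : Subgroup C) v) ≤
        E₀.relIndex B₁ * E.relIndex E₀ := by
      calc _ ≤ (cm D (B₁ : Set C)).relIndex (cm D (E₀ : Set C) ⊓ orb (⊤ : Subgroup C) v) *
          (cm D (E₀ : Set C)).relIndex (orb (⊤ : Subgroup C) v) := Nat.mul_le_mul_right _ (m1.trans c3)
        _ = _ := by rw [c2, mul_comm]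
    exact Nat.le_of_mul_le_mul_left h1 p2

/-- **(2), the first count** -/
theorem exact [Finite C] [Finite W] (ml : MLK.{u, v}) (hK : IsKGroup C) {v : W} (hv : v ∈ Λ) (hvD : v ∉ D) :
    (cm D (B₁ : Set C)).relIndex (orb X v) = (B₁ ⊓ o2 X).relIndex B₁ := (k.aux h ml hK hv hvD).1

/-- **(2), the second count** -/
theorem count [Finite C] [Finite W] (ml : MLK.{u, v}) (hK : IsKGroup C) :
    (cm D (B₁ : Set C)).relIndex (cm D ((B₁ ⊓ o2 X : Subgroup C) : Set C)) < (B₁ ⊓ o2 X).relIndex B₁ ^ 2 := by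
  set E₀ := B₁ ⊓ o2 X with hE₀
  have hE0B : E₀ ≤ B₁ := inf_le_left
  have hEE : E ≤ E₀ := k.E_le h
  have h1 : E.relIndex E₀ ^ 2 ≤ (cm D (E₀ : Set C)).index := by
    by_contra hc
    push Not at hc
    have h2 := k.min E₀ ⟨hE0B.trans k.le, hEE, fun v hv hvD => (k.aux h ml hK hv hvD).2, hc⟩ hE0B
    apply k.nle
    rw [← h2]
    exact inf_le_right
  have c1 : E.relIndex E₀ * E₀.relIndex B₁ = E.relIndex B₁ := relIndex_mul_relIndex _ _ _ hEE hE0B
  have c2 := relIndex_mul_index (cm_anti D (SetLike.coe_subset_coe.2 hE0B) : cm D (B₁ : Set C) ≤ cm D (E₀ : Set C))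
  have h3 := k.lt
  by_contra hc
  push Not at hc
  have h4 : E.relIndex B₁ ^ 2 ≤ (cm D (B₁ : Set C)).index := by
    calc E.relIndex B₁ ^ 2 = E₀.relIndex B₁ ^ 2 * E.relIndex E₀ ^ 2 := by rw [← c1]; ring
      _ ≤ _ := Nat.mul_le_mul hc h1
      _ = _ := c2
  exact absurd h3 (not_lt.2 h4)

end Pick

end Cfsg.Agent.Omega.NO3b.ExEnd
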