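import Cfsg.Agent.Omega.NO3b.ExEnd.Def

/-!
# The exact end: tools and (ML) for sections `⟨v^X⟩ Z / Z`

* `ml_sec` : `|A : C_A(⟨v^X⟩ Z / Z)| ≤ |⟨v^X⟩ Z / Z : C(A)|` for `A ≤ O₂(C_X(v Z))`.
-/

set_option autoImplicit false

namespace Cfsg.Agent.Omega.NO3b.ExEnd

open Subgroup Cfsg Cfsg.Agent.ZN Cfsg.Agent.ClassTwoFusion.Quad Cfsg.Agent.Omega.ML.MinFrame Pointwise
open Cfsg.Agent.MinSimple.VModule (o2_isPGroup o2_le le_o2 le_normalizer_o2 o2_le_of_sylow)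
open Cfsg.Agent.Omega.ML.Final (MLK Dat kgroup_of_surj)

universe u v

variable {C : Type u} [Group C] {W : Type v} [CommGroup W] [MulDistribMulAction C W]

section tools

variable {Z Z' : Subgroup W} {X : Subgroup C} {c x : C} {v z : W} {S : Set W}

theorem cm_mono (h : Z ≤ Z') (F : Set C) : cm Z F ≤ cm Z' F := fun _ hw a ha => h (hw a ha)

theorem cm_anti (Z : Subgroup W) {F F' : Set C} (h : F ⊆ F') : cm Z F' ≤ cm Z F := fun _ hw a ha => hw a (h ha)

theorem le_cm {F : Set C} (h : ∀ a ∈ F, a ∈ iv (C := C) Z) : Z ≤ cm Z F :=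
  fun _ hz a ha => mul_mem (inv_mem hz) (h a ha _ hz).1

theorem le_iv (h : ∀ x ∈ X, ∀ z ∈ Z, x • z ∈ Z) : X ≤ iv Z :=
  fun x hx z hz => ⟨h x hx z hz, h _ (inv_mem hx) z hz⟩

theorem le_iv_orb (X : Subgroup C) (v : W) : X ≤ iv (orb X v) := le_iv fun _ hx _ hz => smul_mem_orb hx hz

theorem le_iv_sup (h : X ≤ iv Z) (h' : X ≤ iv Z') : X ≤ iv (Z ⊔ Z') := by
  refine le_iv fun x hx z hz => ?_
  have h1 : Z ⊔ Z' ≤ (Z ⊔ Z').comap (MulDistribMulAction.toMonoidHom W x) :=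
    sup_le (fun a ha => (le_sup_left : Z ≤ Z ⊔ Z') (h hx a ha).1)
      (fun a ha => (le_sup_right : Z' ≤ Z ⊔ Z') (h' hx a ha).1)
  exact h1 hz

theorem km_le_iv : km C S Z ≤ iv Z := fun _ h => h.1

theorem km_anti {S S' : Set W} (h : S ⊆ S') : km C S' Z ≤ km C S Z := fun _ hc => ⟨hc.1, fun s hs => hc.2 s (h hs)⟩

/-- `[v^x, c] = [v, c^(x⁻¹)]^x` -/
theorem comm_smul (x c : C) (v : W) : (x • v)⁻¹ * c • x • v = x • (v⁻¹ * (x⁻¹ * c * x) • v) := by
  rw [smul_mul', smul_inv', ← mul_smul, ← mul_smul]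
  congr 2
  group

theorem mem_km_orb : c ∈ km C (orb X v : Set W) Z ↔ c ∈ iv (C := C) Z ∧ ∀ x ∈ X, (x • v)⁻¹ * c • x • v ∈ Z := by
  constructor
  · exact fun h => ⟨h.1, fun x hx => h.2 _ (smul_mem_orb_self hx)⟩
  · rintro ⟨h1, h2⟩
    have h3 : orb X v ≤ cm Z ({c} : Set C) := orb_le fun x hx a ha => by
      rw [Set.mem_singleton_iff.1 ha]
      exact h2 x hx
    exact ⟨h1, fun s hs => h3 hs c rfl⟩

/-- `X` normalises `C_X(U mod Z)` -/
theorem conj_mem_km (hX : X ≤ iv Z) (hS : ∀ x ∈ X, ∀ s ∈ S, x • s ∈ S) (hx : x ∈ X) (hc : c ∈ km C S Z) :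
    x * c * x⁻¹ ∈ km C S Z := by
  refine ⟨mul_mem (mul_mem (hX hx) hc.1) (inv_mem (hX hx)), fun s hs => ?_⟩
  have h1 := hc.2 _ (hS _ (inv_mem hx) s hs)
  have h2 := comm_smul x⁻¹ c s
  rw [inv_inv] at h2
  rw [h2] at h1
  have h3 := (hX hx _ h1).1
  rwa [smul_inv_smul] at h3

theorem norm_km (hX : X ≤ iv Z) (hS : ∀ x ∈ X, ∀ s ∈ S, x • s ∈ S) :
    X ≤ normalizer ((km C S Z : Subgroup C) : Set C) := by
  intro x hx
  rw [mem_normalizer_iff]
  refine fun c => ⟨conj_mem_km hX hS hx, fun hc => ?_⟩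
  have h1 := conj_mem_km hX hS (inv_mem hx) hc
  have e : x⁻¹ * (x * c * x⁻¹) * x⁻¹⁻¹ = c := by group
  rwa [e] at h1

theorem le_norm_inf {A B X : Subgroup C} (hA : X ≤ normalizer (A : Set C)) (hB : X ≤ normalizer (B : Set C)) :
    X ≤ normalizer ((A ⊓ B : Subgroup C) : Set C) := by
  intro x hx
  rw [mem_normalizer_iff]
  intro c
  rw [mem_inf, mem_inf, mem_normalizer_iff.1 (hA hx) c, mem_normalizer_iff.1 (hB hx) c]

/-- `O₂(N) ≤ O₂(X)` for `N ⊴ X` -/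
theorem o2_le_o2 {N X : Subgroup C} (hNX : N ≤ X) (hn : X ≤ normalizer (N : Set C)) : o2 N ≤ o2 X := by
  refine le_o2 ((o2_le N).trans hNX) (o2_isPGroup N) ?_
  intro x hx
  have h1 := Cfsg.Agent.MinSimple.CosetFam.o2_conj x N
  have h2 : MulAut.conj x • N = N := Subgroup.mem_normalizer_iff_map_conj_eq.1 (hn hx)
  rw [h2] at h1
  exact Subgroup.mem_normalizer_iff_map_conj_eq.2 h1.symm

/-- `A ∩ N ≤ O₂(X)` for `A ≤ O₂(Y)`, `N ≤ Y`, `N ⊴ X` -/
theorem inf_le_o2 {A N X Y : Subgroup C} (hA : A ≤ o2 Y) (hNY : N ≤ Y) (hNX : N ≤ X)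
    (hn : X ≤ normalizer (N : Set C)) : A ⊓ N ≤ o2 X := by
  have h1 : o2 Y ⊓ N ≤ o2 N := le_o2 inf_le_right ((o2_isPGroup Y).to_le inf_le_left)
    (le_norm_inf (hNY.trans (le_normalizer_o2 Y)) le_normalizer)
  exact (inf_le_inf_right N hA).trans (h1.trans (o2_le_o2 hNX hn))

theorem inf_le_o2' {A Y R : Subgroup C} (hA : A ≤ o2 Y) (hAR : A ≤ R) (hRY : R ≤ Y) : A ≤ o2 R := by
  refine (le_inf hA hAR).trans (le_o2 inf_le_right ((o2_isPGroup Y).to_le inf_le_left) ?_)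
  exact le_norm_inf (hRY.trans (le_normalizer_o2 Y)) le_normalizer

end tools

/-- the action on a quotient -/
abbrev quoAct {X : Type*} [Group X] {U : Type*} [CommGroup U] [MulDistribMulAction X U] (D : Subgroup U)
    (hD : ∀ x : X, ∀ d ∈ D, x • d ∈ D) : MulDistribMulAction X (U ⧸ D) where
  smul x := QuotientGroup.map D D (MulDistribMulAction.toMonoidHom U x) fun d hd => hD x d hd
  one_smul q := by
    obtain ⟨u, rfl⟩ := QuotientGroup.mk_surjective q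
    exact congrArg (QuotientGroup.mk (s := D)) (one_smul X u)
  mul_smul x y q := by
    obtain ⟨u, rfl⟩ := QuotientGroup.mk_surjective q
    exact congrArg (QuotientGroup.mk (s := D)) (mul_smul x y u)
  smul_mul x p q := map_mul (QuotientGroup.map D D (MulDistribMulAction.toMonoidHom U x) fun d hd => hD x d hd) p q
  smul_one x := map_one (QuotientGroup.map D D (MulDistribMulAction.toMonoidHom U x) fun d hd => hD x d hd)

/-- **(ML) for a section** -/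
theorem ml_sec [Finite C] [Finite W] (ml : MLK.{u, v}) (hK : IsKGroup C) (sq : ∀ w : W, w * w = 1)
    {T X : Subgroup C} (hT : IsPGroup 2 T) (hodd : ¬ 2 ∣ T.relIndex X) {Z : Subgroup W}
    (hZ : X ≤ iv Z) {v : W} (hTv : T ≤ km C ({v} : Set W) Z) {A : Subgroup C}
    (hA : A ≤ o2 (X ⊓ km C ({v} : Set W) Z)) (hsq : ∀ a ∈ A, a * a = 1) :
    (km C (orb X v : Set W) Z).relIndex A ≤ (cm Z (A : Set C)).relIndex (orb X v) := by
  have hAX : A ≤ X := (hA.trans (o2_le _)).trans inf_le_left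
  let _ : MulDistribMulAction X (W ⧸ Z) := quoAct Z fun x d hd => (hZ x.2 d hd).1
  set mk : W →* W ⧸ Z := QuotientGroup.mk' Z with hmk
  have hsm : ∀ (g : X) (w : W), g • mk w = mk ((g : C) • w) := fun _ _ => rfl
  have heq : ∀ a b : W, mk a = mk b ↔ a⁻¹ * b ∈ Z := fun a b => QuotientGroup.eq
  have hfix : ∀ (g : X) (w : W), g • mk w = mk w ↔ w⁻¹ * (g : C) • w ∈ Z := by
    intro g w
    rw [hsm, eq_comm, heq]
  set Q := o2 (X ⊓ km C ({v} : Set W) Z) with hQ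
  have hQX : Q ≤ X := (o2_le _).trans inf_le_left
  have hD : Dat (C := X) (V := W ⧸ Z) (T.subgroupOf X) (Q.subgroupOf X) (A.subgroupOf X) (mk v) := by
    refine ⟨?_, hT.comap_of_injective _ X.subtype_injective, hodd, ?_, ?_, ?_, ?_, ?_, ?_⟩
    · intro q
      obtain ⟨w, rfl⟩ := QuotientGroup.mk'_surjective Z q
      rw [← map_mul, sq, map_one]
    · exact fun t ht => (hfix t v).2 ((hTv ht).2 v rfl)
    · intro q hq
      obtain ⟨n, hn⟩ := o2_isPGroup (X ⊓ km C ({v} : Set W) Z) ⟨q, hq⟩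
      refine ⟨n, fun w => ?_⟩
      have h2 : (q : C) ^ 2 ^ n = 1 := congrArg Subtype.val hn
      have h1 : q ^ 2 ^ n = 1 := Subtype.ext h2
      rw [h1, one_smul]
    · exact fun q hq => (hfix q v).2 (((o2_le _) hq).2.2 v rfl)
    · intro g hg q hq
      have h1 : (g : C) ∈ X ⊓ km C ({v} : Set W) Z := ⟨g.2, hZ g.2, fun s hs => by
        rw [Set.mem_singleton_iff.1 hs]
        exact (hfix g v).1 hg⟩
      exact ⟨g * q * g⁻¹, (mem_normalizer_iff.1 (le_normalizer_o2 _ h1) _).1 hq, fun _ => rfl⟩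
    · exact fun a ha => ⟨a, hA ha, fun _ => rfl⟩
    · intro a ha w
      have h1 : a * a = 1 := Subtype.ext (hsq a ha)
      rw [← mul_smul, h1, one_smul]
  have key := ml.act (kgroup_of_surj hK X (MonoidHom.id X) fun x => ⟨x, rfl⟩) hD
  have horb : (orb X v).map mk = orb (⊤ : Subgroup X) (mk v) := by
    apply le_antisymm
    · rw [map_le_iff_le_comap]
      refine orb_le fun g hg => ?_
      rw [mem_comap, ← hsm ⟨g, hg⟩ v]
      exact smul_mem_orb_self (mem_top _)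
    · exact orb_le fun g _ => ⟨(g : C) • v, smul_mem_orb_self g.2, rfl⟩
  have hcv : (cv (W ⧸ Z) ((A.subgroupOf X : Subgroup X) : Set X)).comap mk = cm Z (A : Set C) := by
    ext w
    constructor
    · exact fun h a ha => (hfix ⟨a, hAX ha⟩ w).1 (h ⟨a, hAX ha⟩ ha)
    · exact fun h a ha => (hfix a w).2 (h a ha)
  have hfx : fxr X (orb (⊤ : Subgroup X) (mk v)) = (km C (orb X v : Set W) Z).subgroupOf X := by
    ext g
    rw [mem_fxr_orb, mem_subgroupOf, mem_km_orb]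
    constructor
    · exact fun h => ⟨hZ g.2, fun x hx => (hfix g _).1 (h ⟨x, hx⟩ (mem_top _))⟩
    · exact fun h x _ => (hfix g _).2 (h.2 x x.2)
  rw [← horb, ← relIndex_comap, hcv, horb, hfx, relIndex_subgroupOf hAX] at key
  exact key

end Cfsg.Agent.Omega.NO3b.ExEnd
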